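import Groth.Agent.AffCodimLib.Scheme

/-! An affine open immersion has complement of codimension at most one. -/

set_option autoImplicit false
universe u

noncomputable section

open CategoryTheory AlgebraicGeometry TopologicalSpace

namespace AffCodimLib

theorem exists_nat_dim {X : Scheme.{u}} [IsLocallyNoetherian X] (x : X) :
    ∃ d : ℕ, ringKrullDim (X.presheaf.stalk x) = d := by
  obtain ⟨e, he⟩ := WithBot.ne_bot_iff_exists.1 (ringKrullDim_ne_bot (R := X.presheaf.stalk x))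
  obtain ⟨d, hde⟩ := ENat.ne_top_iff_exists.1 (fun h : e = ⊤ =>
    (ringKrullDim_lt_top (R := X.presheaf.stalk x)).ne (by rw [← he, h]; rfl))
  exact ⟨d, by rw [← he, ← hde]; rfl⟩

/-- Maximal points outside an open subset with affine inclusion have codimension at most one. -/
theorem dim_le_one_of_affine {X : Scheme.{u}} [IsLocallyNoetherian X] (U : X.Opens) [IsAffineHom U.ι] (ξ : X)
    (hξ : ξ ∉ U) (hgen : ∀ y : X, y ∉ U → y ⤳ ξ → y = ξ) : ringKrullDim (X.presheaf.stalk ξ) ≤ 1 := by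
  obtain ⟨d, hd⟩ := exists_nat_dim ξ
  rw [hd]
  by_contra hlt
  have hd2 : 2 ≤ d := by
    by_contra h
    exact hlt (by exact_mod_cast (by omega : d ≤ 1))
  obtain ⟨V, hV, hξV, -⟩ := exists_isAffineOpen_mem_and_subset (x := ξ) (U := ⊤) trivial
  have hUV : IsAffineOpen (U ⊓ V) := by
    have := (IsAffineOpen.preimage hV U.ι).image_of_isOpenImmersion U.ι
    rwa [Scheme.Hom.image_preimage_eq_opensRange_inf, Scheme.Opens.opensRange_ι] at this
  obtain ⟨q, hq⟩ := hV.range_fromSpec.ge hξV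
  obtain ⟨Q, hQ⟩ := exists_prime_over_point hV (inf_le_right : U ⊓ V ≤ V) q
    (fun h => hξ (hq ▸ h.1)) (fun y hy hyq => by
      rw [hq] at hyq
      have hyV : y ∈ V := hyq.mem_open V.2 hξV
      rw [hgen y (fun h => hy ⟨h, hyV⟩) hyq, hd]
      exact_mod_cast hd2)
  have h1 : hV.fromSpec q ∈ U ⊓ V := by
    rw [← hQ, ← Scheme.Hom.comp_apply, hV.map_fromSpec hUV]
    exact hUV.range_fromSpec.subset ⟨Q, rfl⟩
  rw [hq] at h1
  exact hξ h1.1

/-- Points outside a dense open subset are not generic. -/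
theorem dim_ne_zero_of_dense {X : Scheme.{u}} [IsLocallyNoetherian X] (U : X.Opens) (hU : Dense (U : Set X))
    (ξ : X) (hξ : ξ ∉ U) : ringKrullDim (X.presheaf.stalk ξ) ≠ 0 := by
  intro h0
  obtain ⟨V, hV, hξV, -⟩ := exists_isAffineOpen_mem_and_subset (x := ξ) (U := ⊤) trivial
  haveI : IsNoetherianRing Γ(X, V) := IsLocallyNoetherian.component_noetherian ⟨V, hV⟩
  obtain ⟨q, hq⟩ := hV.range_fromSpec.ge hξV
  have hqh : q.asIdeal.height = 0 := by
    have := height_eq_stalk hV q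
    rw [hq, h0] at this
    exact WithBot.coe_inj.1 this
  have hqmin : q.asIdeal ∈ minimalPrimes Γ(X, V) := Ideal.height_eq_zero_iff.1 hqh
  classical
  let S := (minimalPrimes.finite_of_isNoetherianRing Γ(X, V)).toFinset.erase q.asIdeal
  have hne : ∀ P ∈ S, ¬ P ≤ q.asIdeal := fun P hP hle => by
    obtain ⟨h1, h2⟩ := Finset.mem_erase.1 hP
    exact h1 (le_antisymm hle (hqmin.2 ((Set.Finite.mem_toFinset _).1 h2).1 hle))
  have hex : ∃ g, g ∉ q.asIdeal ∧ ∀ P ∈ S, g ∈ P := by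
    have : ¬ S.inf id ≤ q.asIdeal := by
      intro hle
      obtain ⟨P, hP, hPle⟩ := (Ideal.IsPrime.inf_le' q.isPrime).1 hle
      exact hne P hP hPle
    obtain ⟨g, hg, hgq⟩ := SetLike.not_le_iff_exists.1 this
    exact ⟨g, hgq, fun P hP => (Finset.inf_le hP : S.inf id ≤ P) hg⟩
  obtain ⟨g, hgq, hg⟩ := hex
  let W : (Spec Γ(X, V)).Opens := PrimeSpectrum.basicOpen g
  obtain ⟨y, hyW, hyU⟩ := hU.inter_open_nonempty _ (hV.fromSpec.isOpenEmbedding.isOpenMap _ W.2)
    ⟨_, q, hgq, rfl⟩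
  obtain ⟨r, hr, rfl⟩ := hyW
  obtain ⟨P, hP, hPr⟩ := Ideal.exists_minimalPrimes_le (I := ⊥) (J := r.asIdeal) bot_le
  have hPq : P = q.asIdeal := by
    by_contra hne'
    exact hr (hPr (hg P (Finset.mem_erase.2 ⟨hne', (Set.Finite.mem_toFinset _).2 hP⟩)))
  have hspec : q ⤳ r := (PrimeSpectrum.le_iff_specializes q r).1 (by rw [hPq] at hPr; exact hPr)
  exact hξ (hq ▸ (hspec.map hV.fromSpec.continuous).mem_open U.2 hyU)

/-- Generic points of locally principal closed subsets have codimension at most one. -/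
theorem dim_le_one_of_principal {X : Scheme.{u}} [IsLocallyNoetherian X] (D : X.IdealSheafData) (ξ : X)
    (V : X.affineOpens) (hξV : ξ ∈ V.1) (f : Γ(X, V.1)) (hf : D.ideal V = Ideal.span {f})
    (hξ : ξ ∈ (D.support : Set X)) (hgen : ∀ y ∈ (D.support : Set X), y ⤳ ξ → y = ξ) :
    ringKrullDim (X.presheaf.stalk ξ) ≤ 1 := by
  haveI : IsNoetherianRing Γ(X, V.1) := IsLocallyNoetherian.component_noetherian V
  obtain ⟨q, hq⟩ := V.2.range_fromSpec.ge hξV
  have hmem : ∀ r : PrimeSpectrum Γ(X, V.1), V.2.fromSpec r ∈ (D.support : Set X) ↔ f ∈ r.asIdeal := by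
    intro r
    have h := D.coe_support_inter V
    rw [hf, Scheme.zeroLocus_span] at h
    have hrV : V.2.fromSpec r ∈ V.1 := V.2.range_fromSpec.subset ⟨r, rfl⟩
    rw [← not_iff_not]
    have e : (V.2.fromSpec r ∈ X.basicOpen f) ↔ f ∉ r.asIdeal := by
      rw [← Scheme.Hom.mem_preimage, V.2.fromSpec_preimage_basicOpen]
      rfl
    rw [← e]
    constructor
    · intro hns
      by_contra hb
      exact hns ((Set.ext_iff.1 h (V.2.fromSpec r)).2 ⟨by simpa using hb, hrV⟩).1
    · intro hb hs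
      have := ((Set.ext_iff.1 h (V.2.fromSpec r)).1 ⟨hs, hrV⟩).1
      simp at this
      exact this hb
  have hfq : f ∈ q.asIdeal := (hmem q).1 (hq ▸ hξ)
  have hmin : q.asIdeal ∈ (Ideal.span {f}).minimalPrimes := by
    refine ⟨⟨q.isPrime, (Ideal.span_singleton_le_iff_mem _).2 hfq⟩, fun P ⟨hP, hfP⟩ hle => ?_⟩
    have h := hgen _ ((hmem ⟨P, hP⟩).2 ((Ideal.span_singleton_le_iff_mem _).1 hfP))
      (hq ▸ ((PrimeSpectrum.le_iff_specializes ⟨P, hP⟩ q).1 hle).map V.2.fromSpec.continuous)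
    exact (congrArg PrimeSpectrum.asIdeal (V.2.fromSpec.isOpenEmbedding.injective (h.trans hq.symm))).ge
  have := Ideal.height_le_one_of_isPrincipal_of_mem_minimalPrimes (Ideal.span {f}) q.asIdeal hmin
  rw [← hq, ← height_eq_stalk V.2 q]
  exact_mod_cast this

/-- Over a codimension at least two complement the affine hull surjects onto the affine base. -/
theorem surjective_hull {X : Scheme.{u}} [IsLocallyNoetherian X] [IsAffine X] (U : X.Opens)
    (hcodim : ∀ x : X, x ∉ U → (2 : WithBot ℕ∞) ≤ ringKrullDim (X.presheaf.stalk x)) :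
    Surjective (Spec.map (X.presheaf.map (homOfLE (le_top : U ≤ ⊤)).op)) := by
  refine ⟨fun q => ?_⟩
  have hV := isAffineOpen_top X
  by_cases h : hV.fromSpec q ∈ U
  · refine ⟨U.toSpecΓ ⟨hV.fromSpec q, h⟩, ?_⟩
    rw [← Scheme.Hom.comp_apply, Scheme.Opens.toSpecΓ_SpecMap_presheaf_map]
    apply hV.fromSpec.isOpenEmbedding.injective
    rw [← Scheme.Hom.comp_apply, Category.assoc, IsAffineOpen.toSpecΓ_fromSpec]
    simp
  · exact exists_prime_over_point hV le_top q h fun y hy _ => hcodim y hy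

end AffCodimLib
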