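import Groth.Agent.LocCohLib.NonVanishing
import Groth.Agent.LocCohLib.CohDim

/-! If `A → B` is an isomorphism away from a closed set of codimension at least two in a Noetherian
local ring `A`, the maximal ideal of `A` does not generate the unit ideal of `B`. -/

set_option autoImplicit false
universe u

noncomputable section

open CategoryTheory Limits IsLocalRing

namespace AffCodimLib

/-- Local cohomology is additive, being exact in the middle. -/
theorem map_add_apply {A : Type u} [CommRing A] (I : Ideal A) (i : ℕ) {M N : ModuleCat.{u} A}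
    (φ ψ : M ⟶ N) (y : (localCohomology I i).obj M) :
    ((localCohomology I i).map (φ + ψ)).hom y =
      ((localCohomology I i).map φ).hom y + ((localCohomology I i).map ψ).hom y := by
  haveI : (localCohomology I i).PreservesZeroMorphisms := (LocCohLib.lcDelta I).preservesZero i
  let P : ModuleCat.{u} A := ModuleCat.of A (M × M)
  let i₁ : M ⟶ P := ModuleCat.ofHom (LinearMap.inl A M M)
  let i₂ : M ⟶ P := ModuleCat.ofHom (LinearMap.inr A M M)
  let p₁ : P ⟶ M := ModuleCat.ofHom (LinearMap.fst A M M)
  let p₂ : P ⟶ M := ModuleCat.ofHom (LinearMap.snd A M M)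
  let G := localCohomology I i
  have hc : ∀ {X Y Z : ModuleCat.{u} A} (f : X ⟶ Y) (g : Y ⟶ Z) (x : G.obj X),
      (G.map g).hom ((G.map f).hom x) = (G.map (f ≫ g)).hom x := fun f g x => by
    rw [G.map_comp]; rfl
  have h11 : i₁ ≫ p₁ = 𝟙 M := ModuleCat.hom_ext (LinearMap.ext fun x => rfl)
  have h12 : i₁ ≫ p₂ = 0 := ModuleCat.hom_ext (LinearMap.ext fun x => rfl)
  have h21 : i₂ ≫ p₁ = 0 := ModuleCat.hom_ext (LinearMap.ext fun x => rfl)
  have h22 : i₂ ≫ p₂ = 𝟙 M := ModuleCat.hom_ext (LinearMap.ext fun x => rfl)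
  have hS : (ShortComplex.mk i₁ p₂ h12).ShortExact :=
    { exact := (ShortComplex.ShortExact.moduleCat_exact_iff_function_exact _).2 Function.Exact.inl_snd
      mono_f := (ModuleCat.mono_iff_injective _).2 LinearMap.inl_injective
      epi_g := (ModuleCat.epi_iff_surjective _).2 LinearMap.snd_surjective }
  have joint : ∀ z : G.obj P, (G.map p₁).hom z = 0 → (G.map p₂).hom z = 0 → z = 0 := fun z h1 h2 => by
    obtain ⟨w, hw⟩ := (ShortComplex.moduleCat_exact_iff _).1 ((LocCohLib.lcDelta I).exact₂ hS i) z h2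
    have hw' : (G.map i₁).hom w = z := hw
    have h3 : w = 0 := by
      rw [← hw', hc, h11, G.map_id] at h1
      exact h1
    exact hw'.symm.trans ((congrArg (G.map i₁).hom h3).trans (map_zero (G.map i₁).hom))
  let Δ : M ⟶ P := i₁ + i₂
  have hΔ : (G.map Δ).hom y = (G.map i₁).hom y + (G.map i₂).hom y := by
    refine sub_eq_zero.1 (joint _ ?_ ?_)
    · rw [map_sub, map_add, hc, hc, hc, show Δ ≫ p₁ = 𝟙 M from by
        simp [Δ, Preadditive.add_comp, h11, h21], h11, h21, G.map_zero]
      show _ - (_ + 0) = 0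
      rw [add_zero, sub_self]
    · rw [map_sub, map_add, hc, hc, hc, show Δ ≫ p₂ = 𝟙 M from by
        simp [Δ, Preadditive.add_comp, h12, h22], h12, h22, G.map_zero]
      show _ - (0 + _) = 0
      rw [zero_add, sub_self]
  let Φ : P ⟶ N := p₁ ≫ φ + p₂ ≫ ψ
  have e1 : i₁ ≫ Φ = φ := by simp [Φ, Preadditive.comp_add, reassoc_of% h11, reassoc_of% h12]
  have e2 : i₂ ≫ Φ = ψ := by simp [Φ, Preadditive.comp_add, reassoc_of% h21, reassoc_of% h22]
  have e3 : Δ ≫ Φ = φ + ψ := by simp [Δ, Preadditive.add_comp, e1, e2]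
  rw [← e3, ← hc, hΔ, map_add, hc, hc, e1, e2]

variable {A : Type u} [CommRing A] [IsNoetherianRing A] [IsLocalRing A]

/-- Torsion modules with small support have no top local cohomology. -/
theorem subsingleton_H_torsion (I : Ideal A) (M : Type u) [AddCommGroup M] [Module A M]
    (hM : ∀ x : M, ∃ n : ℕ, ∀ c ∈ I ^ n, c • x = 0) (i : ℕ) (hi : ringKrullDim (A ⧸ I) < i) :
    Subsingleton (LocCoh.H (maximalIdeal A) i M) := by
  refine LocCohLib.subsingleton_H_of_supportDim_lt i M (lt_of_le_of_lt ?_ hi)
  rw [ringKrullDim_quotient]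
  refine Order.krullDim_le_of_strictMono (fun p => ⟨p.1, ?_⟩) (fun a b h => h)
  obtain ⟨x, hx⟩ := Module.mem_support_iff'.1 p.2
  obtain ⟨n, hn⟩ := hM x
  rw [PrimeSpectrum.mem_zeroLocus]
  intro c hc
  by_contra hcp
  exact hx (c ^ n) (fun h => hcp (p.1.isPrime.mem_of_pow_mem n h)) (hn _ (Ideal.pow_mem_pow hc n))

omit [IsNoetherianRing A] in
/-- A module on which the maximal ideal of `A` generates the unit ideal of scalars is acyclic. -/
theorem subsingleton_H_of_map_eq_top (B : Type u) [CommRing B] [Algebra A B]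
    (h : (maximalIdeal A).map (algebraMap A B) = ⊤) (i : ℕ) :
    Subsingleton (LocCoh.H (maximalIdeal A) i B) := by
  let L : B →+* End (ModuleCat.of A B) :=
    { toFun := fun b => ModuleCat.ofHom (LinearMap.mulLeft A b)
      map_one' := ModuleCat.hom_ext (LinearMap.ext fun x => one_mul x)
      map_mul' := fun a b => ModuleCat.hom_ext (LinearMap.ext fun x => mul_assoc a b x)
      map_zero' := ModuleCat.hom_ext (LinearMap.ext fun x => zero_mul x)
      map_add' := fun a b => ModuleCat.hom_ext (LinearMap.ext fun x => add_mul a b x) }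
  haveI : (localCohomology (maximalIdeal A) i).PreservesZeroMorphisms :=
    (LocCohLib.lcDelta (maximalIdeal A)).preservesZero i
  let F : B →+* End ((localCohomology (maximalIdeal A) i).obj (ModuleCat.of A B)) :=
    { toFun := fun b => (localCohomology (maximalIdeal A) i).map (L b)
      map_one' := by rw [map_one]; exact (localCohomology (maximalIdeal A) i).map_id _
      map_mul' := fun a b => by rw [map_mul]; exact (localCohomology (maximalIdeal A) i).map_comp _ _
      map_zero' := by rw [map_zero]; exact (localCohomology (maximalIdeal A) i).map_zero _ _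
      map_add' := fun a b => by
        rw [map_add]
        exact ModuleCat.hom_ext (LinearMap.ext fun x => map_add_apply _ _ _ _ x) }
  refine ⟨fun y z => sub_eq_zero.1 ?_⟩
  obtain ⟨n, hn⟩ := LocCohLib.isPowerTorsion_H (maximalIdeal A) i B (y - z)
  let P : Ideal B :=
    { carrier := {b | (F b).hom (y - z) = 0}
      add_mem' := fun {a b} ha hb => by
        show (F (a + b)).hom (y - z) = 0
        rw [map_add]
        exact (congrArg₂ (· + ·) ha hb).trans (add_zero _)
      zero_mem' := by
        show (F 0).hom (y - z) = 0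
        rw [map_zero]; rfl
      smul_mem' := fun c a ha => by
        show (F (c * a)).hom (y - z) = 0
        rw [map_mul]
        exact (congrArg (F c).hom ha).trans (map_zero _) }
  have hP : ((maximalIdeal A) ^ n).map (algebraMap A B) ≤ P := by
    rw [Ideal.map_le_iff_le_comap]
    intro c hc
    show ((localCohomology (maximalIdeal A) i).map (L (algebraMap A B c))).hom (y - z) = 0
    rw [show L (algebraMap A B c) = c • 𝟙 (ModuleCat.of A B) from
      ModuleCat.hom_ext (LinearMap.ext fun x => (Algebra.smul_def c x).symm), LocCohLib.map_smul_id]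
    exact hn c hc
  rw [Ideal.map_pow, h, Ideal.top_pow] at hP
  have h1 : (F 1).hom (y - z) = 0 := hP (x := 1) trivial
  rw [map_one] at h1
  exact h1

/-- The key lemma. -/
theorem map_maximalIdeal_ne_top (B : Type u) [CommRing B] [Algebra A B] (I : Ideal A) (d : ℕ)
    (hd : ringKrullDim A = d) (hd1 : 1 ≤ d) (hI : ringKrullDim (A ⧸ I) + 1 < d)
    (hker : ∀ a : A, algebraMap A B a = 0 → ∃ n : ℕ, ∀ c ∈ I ^ n, c * a = 0)
    (hcok : ∀ b : B, ∃ n : ℕ, ∀ c ∈ I ^ n, ∃ a : A, algebraMap A B a = c • b) :
    (maximalIdeal A).map (algebraMap A B) ≠ ⊤ := by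
  intro htop
  obtain ⟨j, rfl⟩ := Nat.exists_eq_add_of_le' hd1
  have hI' : ringKrullDim (A ⧸ I) < (j : WithBot ℕ∞) := by
    rcases eq_or_ne (ringKrullDim (A ⧸ I)) ⊥ with hb | hb
    · rw [hb]; exact WithBot.bot_lt_coe _
    obtain ⟨e, he⟩ := WithBot.ne_bot_iff_exists.1 hb
    rw [← he] at hI ⊢
    have h' : e + 1 < ((j + 1 : ℕ) : ℕ∞) := WithBot.coe_lt_coe.1 hI
    rw [Nat.cast_add, Nat.cast_one, ENat.add_lt_add_iff_right ENat.one_ne_top] at h'
    exact WithBot.coe_lt_coe.2 h'
  let f : A →ₗ[A] B := Algebra.linearMap A B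
  let K := LinearMap.ker f
  let C := B ⧸ LinearMap.range f
  have hK : Subsingleton (LocCoh.H (maximalIdeal A) (j + 1) K) := by
    refine subsingleton_H_torsion I K (fun x => ?_) (j + 1) (hI'.trans_le (by exact_mod_cast Nat.le_succ j))
    obtain ⟨n, hn⟩ := hker x.1 x.2
    exact ⟨n, fun c hc => Subtype.ext (hn c hc)⟩
  have hC : Subsingleton (LocCoh.H (maximalIdeal A) j C) := by
    refine subsingleton_H_torsion I C (fun x => ?_) j hI'
    obtain ⟨b, rfl⟩ := Submodule.mkQ_surjective _ x
    obtain ⟨n, hn⟩ := hcok b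
    refine ⟨n, fun c hc => ?_⟩
    rw [← map_smul, Submodule.mkQ_apply, Submodule.Quotient.mk_eq_zero]
    exact hn c hc
  have hR : Subsingleton (LocCoh.H (maximalIdeal A) (j + 1) (LinearMap.range f)) :=
    LocCohLib.subsingleton_H_left (LinearMap.range f).subtype (LinearMap.range f).mkQ
      Subtype.val_injective (LinearMap.exact_subtype_mkQ _) (Submodule.mkQ_surjective _) j
      (subsingleton_H_of_map_eq_top B htop (j + 1)) hC
  have hA : Subsingleton (LocCoh.H (maximalIdeal A) (j + 1) A) :=
    LocCohLib.subsingleton_H_mid K.subtype f.rangeRestrict Subtype.val_injective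
      (by rw [LinearMap.exact_iff, LinearMap.ker_rangeRestrict, Submodule.range_subtype])
      f.surjective_rangeRestrict (j + 1) hK hR
  exact not_nontrivial_iff_subsingleton.2 hA
    (LocCohLib.nonvanishing (j + 1) A ((Module.supportDim_self_eq_ringKrullDim A).trans hd)).1

end AffCodimLib
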