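import Groth.Agent.AffCodimLib.Core
import Mathlib

/-! Primes of the sections over an open subset lying over points of codimension at least two outside it. -/

set_option autoImplicit false
set_option maxHeartbeats 800000
universe u

noncomputable section

open CategoryTheory AlgebraicGeometry TopologicalSpace IsLocalRing

namespace AffCodimLib

/-- Dimension bound: a closed set all of whose points have height at least two. -/
theorem dim_quot_add_two_le {A : Type u} [CommRing A] [IsNoetherianRing A] [IsLocalRing A] (I : Ideal A)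
    (h : ∀ q : Ideal A, q.IsPrime → I ≤ q → (2 : ℕ∞) ≤ q.height) (d : ℕ) (hd : ringKrullDim A = d) (hI : I ≠ ⊤) :
    2 ≤ d ∧ ringKrullDim (A ⧸ I) + 1 < d := by
  haveI := Ideal.Quotient.nontrivial_iff.2 hI
  have key : ∀ p : LTSeries (PrimeSpectrum.zeroLocus (I : Set A)), p.length + 2 ≤ d := by
    intro p
    have hq : (2 : ℕ∞) ≤ Order.height (p.head.1) := by
      have := h p.head.1.asIdeal p.head.1.isPrime p.head.2
      rwa [PrimeSpectrum.height_eq_orderHeight] at this
    obtain ⟨s, hs, hsl⟩ := Order.exists_series_of_le_height (p.head.1) (n := 2) hq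
    let p' : LTSeries (PrimeSpectrum A) := p.map (·.1) (fun a b hab => hab)
    let t : LTSeries (PrimeSpectrum A) := s.smash p' (hs.trans rfl)
    have h1 : (t.length : WithBot ℕ∞) ≤ ringKrullDim A := Order.LTSeries.length_le_krullDim t
    rw [hd] at h1
    have h2 : t.length = 2 + p.length := by show s.length + p.length = _; rw [hsl]
    rw [h2] at h1
    have h3 : 2 + p.length ≤ d := by exact_mod_cast h1
    omega
  have hne : Nonempty (PrimeSpectrum.zeroLocus (I : Set A)) :=
    Set.nonempty_coe_sort.2 (Set.nonempty_iff_ne_empty.2 fun he => hI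
      (PrimeSpectrum.zeroLocus_empty_iff_eq_top.1 he))
  obtain ⟨x⟩ := hne
  have h2d : 2 ≤ d := by
    have := key (RelSeries.singleton _ x)
    simp only [RelSeries.singleton_length] at this
    omega
  refine ⟨h2d, ?_⟩
  have hle : ringKrullDim (A ⧸ I) ≤ ((d - 2 : ℕ) : WithBot ℕ∞) := by
    rw [ringKrullDim_quotient]
    refine iSup_le fun p => ?_
    have := key p
    exact_mod_cast (by omega : p.length ≤ d - 2)
  refine lt_of_le_of_lt (add_le_add_left hle 1) ?_
  exact_mod_cast (by omega : d - 2 + 1 < d)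

/-- Torsion of kernel and cokernel for restriction from an affine open to a smaller open. -/
theorem res_torsion {X : Scheme.{u}} {V U : X.Opens} (hV : IsAffineOpen V) (hle : U ≤ V)
    (hc : IsCompact (U : Set X)) (hqs : IsQuasiSeparated (U : Set X)) (g : Γ(X, V))
    (hg : X.basicOpen g ≤ U) :
    letI := (X.presheaf.map (homOfLE hle).op).hom.toAlgebra
    (∀ a : Γ(X, V), algebraMap Γ(X, V) Γ(X, U) a = 0 → ∃ n : ℕ, g ^ n * a = 0) ∧
      ∀ b : Γ(X, U), ∃ n : ℕ, ∃ a : Γ(X, V), algebraMap Γ(X, V) Γ(X, U) a = g ^ n • b := by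
  letI := (X.presheaf.map (homOfLE hle).op).hom.toAlgebra
  let r := (X.presheaf.map (homOfLE hle).op).hom
  let g' : Γ(X, U) := r g
  have hb : X.basicOpen g' = X.basicOpen g := by
    show X.basicOpen ((X.presheaf.map (homOfLE hle).op).hom g) = _
    rw [Scheme.basicOpen_res, inf_eq_right.2 hg]
  haveI hlV : IsLocalization.Away g Γ(X, X.basicOpen g) := hV.isLocalization_basicOpen g
  refine ⟨fun a ha => ?_, fun b => ?_⟩
  · have h0 : algebraMap Γ(X, V) Γ(X, X.basicOpen g) a = algebraMap Γ(X, V) Γ(X, X.basicOpen g) 0 := by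
      rw [map_zero]
      show (X.presheaf.map (homOfLE (X.basicOpen_le g)).op).hom a = 0
      have : (X.presheaf.map (homOfLE (X.basicOpen_le g)).op) =
          X.presheaf.map (homOfLE hle).op ≫ X.presheaf.map (homOfLE hg).op := by
        rw [← X.presheaf.map_comp]; rfl
      rw [this, CommRingCat.comp_apply]
      exact (congrArg _ ha).trans (map_zero _)
    obtain ⟨⟨c, n, rfl⟩, hn⟩ := (IsLocalization.eq_iff_exists (Submonoid.powers g) _).1 h0
    exact ⟨n, hn.trans (mul_zero _)⟩
  · obtain ⟨⟨a, ⟨c, n, rfl⟩⟩, hn⟩ := IsLocalization.surj (Submonoid.powers g)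
      ((X.presheaf.map (homOfLE hg).op).hom b : Γ(X, X.basicOpen g))
    let x : Γ(X, U) := r a - g' ^ n * b
    have hres : (X.presheaf.map (homOfLE (X.basicOpen_le g')).op).hom x = 0 := by
      have e : ∀ y : Γ(X, U), (X.presheaf.map (homOfLE (X.basicOpen_le g')).op).hom y =
          (X.presheaf.map (eqToHom hb).op).hom ((X.presheaf.map (homOfLE hg).op).hom y) := fun y => by
        rw [← CommRingCat.comp_apply, ← X.presheaf.map_comp]; rfl
      have e2 : ∀ y : Γ(X, V), (X.presheaf.map (homOfLE hg).op).hom (r y) =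
          algebraMap Γ(X, V) Γ(X, X.basicOpen g) y := fun y => by
        show (X.presheaf.map (homOfLE hg).op).hom ((X.presheaf.map (homOfLE hle).op).hom y) = _
        rw [← CommRingCat.comp_apply, ← X.presheaf.map_comp]; rfl
      rw [e]
      refine (congrArg _ ?_).trans (map_zero _)
      show (X.presheaf.map (homOfLE hg).op).hom (r a - g' ^ n * b) = 0
      rw [map_sub, map_mul, map_pow, e2, e2, ← map_pow, ← hn, mul_comm, sub_self]
    obtain ⟨k, hk⟩ := exists_pow_mul_eq_zero_of_res_basicOpen_eq_zero_of_isCompact X hc x g' hres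
    refine ⟨k + n, g ^ k * a, ?_⟩
    show r (g ^ k * a) = r (g ^ (k + n)) * b
    have hk' : g' ^ k * r a = g' ^ k * (g' ^ n * b) := sub_eq_zero.1 ((mul_sub _ _ _).symm.trans hk)
    rw [map_mul, map_pow, map_pow, hk', pow_add, mul_assoc]

/-- Elementwise torsion with respect to each element gives torsion with respect to the ideal. -/
theorem pow_torsion {R : Type u} [CommRing R] [IsNoetherianRing R] (I J : Ideal R)
    (h : ∀ g ∈ I, ∃ n : ℕ, g ^ n ∈ J) : ∃ n : ℕ, I ^ n ≤ J :=
  Ideal.exists_pow_le_of_le_radical_of_fg (fun g hg => h g hg) (IsNoetherian.noetherian I)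

/-- The main statement in algebraic form. -/
theorem exists_prime_over {R B : Type u} [CommRing R] [IsNoetherianRing R] [CommRing B] [Algebra R B]
    (I : Ideal R) (hker : ∀ g ∈ I, ∀ a : R, algebraMap R B a = 0 → ∃ n : ℕ, g ^ n * a = 0)
    (hcok : ∀ g ∈ I, ∀ b : B, ∃ n : ℕ, ∃ a : R, algebraMap R B a = g ^ n • b)
    (p : Ideal R) [p.IsPrime] (hp : I ≤ p)
    (hht : ∀ q : Ideal R, q.IsPrime → I ≤ q → q ≤ p → (2 : ℕ∞) ≤ q.height) :
    ∃ Q : Ideal B, Q.IsPrime ∧ Q.comap (algebraMap R B) = p := by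
  let A := Localization.AtPrime p
  let B' := Localization (Algebra.algebraMapSubmonoid B p.primeCompl)
  letI : Algebra A B' := localizationAlgebra p.primeCompl B
  haveI : IsScalarTower R A B' := IsScalarTower.of_algebraMap_eq'
    (IsLocalization.map_comp (M := p.primeCompl) (T := Algebra.algebraMapSubmonoid B p.primeCompl)
      (S := A) (Q := B') (g := algebraMap R B) (fun y hy => ⟨y, hy, rfl⟩)).symm
  let I' := I.map (algebraMap R A)
  obtain ⟨d, hd⟩ : ∃ d : ℕ, ringKrullDim A = d := by
    obtain ⟨e, he⟩ := WithBot.ne_bot_iff_exists.1 (ringKrullDim_ne_bot (R := A))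
    obtain ⟨d, hde⟩ := ENat.ne_top_iff_exists.1 (fun h : e = ⊤ =>
      (ringKrullDim_lt_top (R := A)).ne (by rw [← he, h]; rfl))
    exact ⟨d, by rw [← he, ← hde]; rfl⟩
  have hI' : I' ≠ ⊤ := fun h => (IsLocalRing.maximalIdeal.isMaximal A).ne_top (top_le_iff.1 (h ▸
    (Ideal.map_mono hp).trans (le_of_eq Localization.AtPrime.map_eq_maximalIdeal)))
  have hq : ∀ q : Ideal A, q.IsPrime → I' ≤ q → (2 : ℕ∞) ≤ q.height := fun q hq hle => by
    haveI := hq
    rw [← IsLocalization.height_under p.primeCompl q]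
    refine hht _ inferInstance (Ideal.map_le_iff_le_comap.1 hle) ?_
    intro x hx
    by_contra hxp
    exact hq.ne_top (Ideal.eq_top_of_isUnit_mem _ hx
      (IsLocalization.map_units A (⟨x, hxp⟩ : p.primeCompl)))
  obtain ⟨hd2, hdim⟩ := dim_quot_add_two_le I' hq d hd hI'
  have hpow : ∀ n, I' ^ n = (I ^ n).map (algebraMap R A) := fun n => (Ideal.map_pow _ _ _).symm
  have hker' : ∀ z : A, algebraMap A B' z = 0 → ∃ n : ℕ, ∀ c ∈ I' ^ n, c * z = 0 := by
    intro z hz
    obtain ⟨a, s, rfl⟩ := IsLocalization.exists_mk'_eq p.primeCompl z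
    have h0 : algebraMap R B' a = 0 := by
      rw [IsScalarTower.algebraMap_apply R A B', ← IsLocalization.mk'_spec A a s, map_mul, hz, zero_mul]
    rw [IsScalarTower.algebraMap_apply R B B'] at h0
    obtain ⟨⟨_, t, ht, rfl⟩, hts⟩ := (IsLocalization.map_eq_zero_iff
      (Algebra.algebraMapSubmonoid B p.primeCompl) B' _).1 h0
    obtain ⟨n, hn⟩ := pow_torsion I (Submodule.colon (⊥ : Ideal R) {t * a}) fun g hg => by
      obtain ⟨n, hn⟩ := hker g hg (t * a) (by rw [map_mul]; exact hts)
      exact ⟨n, Submodule.mem_colon_singleton.2 (by rw [smul_eq_mul, hn]; rfl)⟩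
    refine ⟨n, fun c hc => ?_⟩
    rw [hpow] at hc
    suffices hle : (I ^ n).map (algebraMap R A) ≤ Submodule.colon (⊥ : Ideal A) {IsLocalization.mk' A a s} by
      exact Submodule.mem_colon_singleton.1 (hle hc)
    rw [Ideal.map_le_iff_le_comap]
    intro i hi
    rw [Ideal.mem_comap, Submodule.mem_colon_singleton, Submodule.mem_bot, smul_eq_mul]
    have : i * (t * a) = 0 := (Submodule.mem_bot R).1 (Submodule.mem_colon_singleton.1 (hn hi))
    refine ((IsLocalization.map_units A (⟨t, ht⟩ : p.primeCompl)).mul (IsLocalization.map_units A s)).mul_left_eq_zero.1 ?_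
    rw [← map_zero (algebraMap R A), ← this, map_mul, map_mul, ← IsLocalization.mk'_spec A a s]
    ring
  have hcok' : ∀ z : B', ∃ n : ℕ, ∀ c ∈ I' ^ n, ∃ w : A, algebraMap A B' w = c • z := by
    intro z
    obtain ⟨b, ⟨_, t, ht, rfl⟩, rfl⟩ := IsLocalization.exists_mk'_eq (Algebra.algebraMapSubmonoid B p.primeCompl) z
    obtain ⟨n, hn⟩ := pow_torsion I ((LinearMap.range (Algebra.linearMap R B)).colon {b}) fun g hg => by
      obtain ⟨n, a, ha⟩ := hcok g hg b
      exact ⟨n, Submodule.mem_colon_singleton.2 ⟨a, ha⟩⟩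
    refine ⟨n, fun c hc => ?_⟩
    rw [hpow] at hc
    suffices hle : (I ^ n).map (algebraMap R A) ≤ (LinearMap.range (Algebra.linearMap A B')).colon
        {IsLocalization.mk' B' b (⟨algebraMap R B t, t, ht, rfl⟩ : Algebra.algebraMapSubmonoid B p.primeCompl)} by
      exact Submodule.mem_colon_singleton.1 (hle hc)
    rw [Ideal.map_le_iff_le_comap]
    intro i hi
    rw [Ideal.mem_comap, Submodule.mem_colon_singleton]
    obtain ⟨a, ha⟩ := Submodule.mem_colon_singleton.1 (hn hi)
    refine ⟨IsLocalization.mk' A a ⟨t, ht⟩, ?_⟩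
    have hu : IsUnit (algebraMap R B' t) := by
      rw [IsScalarTower.algebraMap_apply R B B']
      exact IsLocalization.map_units B' (⟨algebraMap R B t, t, ht, rfl⟩ : Algebra.algebraMapSubmonoid B p.primeCompl)
    refine hu.mul_left_inj.1 ?_
    rw [Algebra.linearMap_apply, IsScalarTower.algebraMap_apply R A B' t, ← map_mul, IsLocalization.mk'_spec,
      ← IsScalarTower.algebraMap_apply R A B', Algebra.smul_def, ← IsScalarTower.algebraMap_apply R A B',
      mul_assoc, ← IsScalarTower.algebraMap_apply R A B', IsScalarTower.algebraMap_apply R B B' t,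
      IsLocalization.mk'_spec, IsScalarTower.algebraMap_apply R B B', IsScalarTower.algebraMap_apply R B B' i,
      ← map_mul]
    exact congrArg _ (ha.trans (Algebra.smul_def i b))
  have hne := map_maximalIdeal_ne_top B' I' d hd (by omega) hdim hker' hcok'
  obtain ⟨Q, hQ, hle⟩ := Ideal.exists_le_maximal _ hne
  refine ⟨Q.comap (algebraMap B B'), inferInstance, ?_⟩
  rw [Ideal.comap_comap, ← IsScalarTower.algebraMap_eq, IsScalarTower.algebraMap_eq R A B',
    ← Ideal.comap_comap, ← (IsLocalRing.maximalIdeal.isMaximal A).eq_of_le (Ideal.comap_ne_top _ hQ.ne_top)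
      (Ideal.map_le_iff_le_comap.1 hle)]
  exact Localization.AtPrime.comap_maximalIdeal

/-- Codimension of a point from its height in an affine chart. -/
theorem height_eq_stalk {X : Scheme.{u}} {V : X.Opens} (hV : IsAffineOpen V) (q : PrimeSpectrum Γ(X, V)) :
    (q.asIdeal.height : WithBot ℕ∞) = ringKrullDim (X.presheaf.stalk (hV.fromSpec q)) := by
  letI := TopCat.Presheaf.algebra_section_stalk X.presheaf
    (⟨hV.fromSpec q, hV.range_fromSpec.subset ⟨q, rfl⟩⟩ : V)
  haveI := hV.isLocalization_stalk ⟨hV.fromSpec q, hV.range_fromSpec.subset ⟨q, rfl⟩⟩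
  rw [IsLocalization.AtPrime.ringKrullDim_eq_height
    (hV.primeIdealOf ⟨hV.fromSpec q, hV.range_fromSpec.subset ⟨q, rfl⟩⟩).asIdeal]
  congr 2
  have := hV.fromSpec_primeIdealOf ⟨hV.fromSpec q, hV.range_fromSpec.subset ⟨q, rfl⟩⟩
  exact congrArg PrimeSpectrum.asIdeal (hV.fromSpec.isOpenEmbedding.injective this).symm

/-- The main statement for schemes. -/
theorem exists_prime_over_point {X : Scheme.{u}} [IsLocallyNoetherian X] {V U : X.Opens}
    (hV : IsAffineOpen V) (hle : U ≤ V) (q : PrimeSpectrum Γ(X, V)) (hqU : hV.fromSpec q ∉ U)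
    (hht : ∀ y : X, y ∉ U → y ⤳ hV.fromSpec q → (2 : WithBot ℕ∞) ≤ ringKrullDim (X.presheaf.stalk y)) :
    ∃ Q : PrimeSpectrum Γ(X, U), Spec.map (X.presheaf.map (homOfLE hle).op) Q = q := by
  haveI : IsNoetherianRing Γ(X, V) := IsLocallyNoetherian.component_noetherian ⟨V, hV⟩
  letI := (X.presheaf.map (homOfLE hle).op).hom.toAlgebra
  haveI : NoetherianSpace (V : Set X) := noetherianSpace_of_isAffineOpen V hV
  have hc : IsCompact (U : Set X) :=
    (TopologicalSpace.noetherianSpace_set_iff (V : Set X)).1 inferInstance _ hle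
  have hqs : IsQuasiSeparated (U : Set X) := hV.isQuasiSeparated.of_subset hle
  let Z : Set (PrimeSpectrum Γ(X, V)) := {r | hV.fromSpec r ∉ U}
  have hZ : IsClosed Z := (U.2.preimage hV.fromSpec.continuous).isClosed_compl
  let I := PrimeSpectrum.vanishingIdeal Z
  have hIg : ∀ g ∈ I, X.basicOpen g ≤ U := by
    intro g hg y hy
    obtain ⟨r, rfl⟩ := hV.range_fromSpec.ge (X.basicOpen_le g hy)
    by_contra hr
    have h2 : r ∈ hV.fromSpec ⁻¹ᵁ X.basicOpen g := hy
    rw [hV.fromSpec_preimage_basicOpen] at h2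
    exact h2 ((PrimeSpectrum.mem_vanishingIdeal Z g).1 hg r hr)
  have hI : ∀ r : PrimeSpectrum Γ(X, V), I ≤ r.asIdeal → hV.fromSpec r ∉ U := fun r hr => by
    have : r ∈ Z := by
      rw [← hZ.closure_eq, ← PrimeSpectrum.zeroLocus_vanishingIdeal_eq_closure]
      exact hr
    exact this
  obtain ⟨Q, hQ, hQq⟩ := exists_prime_over (B := Γ(X, U)) I
    (fun g hg => (res_torsion hV hle hc hqs g (hIg g hg)).1)
    (fun g hg => (res_torsion hV hle hc hqs g (hIg g hg)).2) q.asIdeal
    (fun g hg => (PrimeSpectrum.mem_vanishingIdeal Z g).1 hg q hqU) fun r hr hIr hrq => by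
      have h := hht _ (hI ⟨r, hr⟩ hIr) (((PrimeSpectrum.le_iff_specializes ⟨r, hr⟩ q).1 hrq).map
        hV.fromSpec.continuous)
      rw [← height_eq_stalk hV ⟨r, hr⟩] at h
      exact WithBot.coe_le_coe.1 h
  exact ⟨⟨Q, hQ⟩, PrimeSpectrum.ext hQq⟩

end AffCodimLib
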